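import Groth.Prelude.Def_Omega3
import Mathlib.RingTheory.Kaehler.Basic
import Mathlib.RingTheory.Unramified.Basic
import Mathlib.Algebra.TrivSqZeroExt.Basic
import Mathlib.RingTheory.Ideal.Quotient.Operations

/-!
# Differentials of universal square-zero thickenings
-/

set_option autoImplicit false

universe u

open TrivSqZeroExt TensorProduct

namespace ThickRingLib

variable {A B B' : Type u} [CommRing A] [CommRing B] [CommRing B'] [Algebra A B] [Algebra A B']
  (π : B' →ₐ[A] B)

/-- Additive maps `A → M` with the Leibniz rule extend uniquely to `B'` when `ker π` kills `M`. -/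
theorem existsUnique_ext (h : OmegaSh.IsUnivThickeningRing A B B' π) (M : Type u) [AddCommGroup M]
    [Module B' M] (hM : ∀ k, π k = 0 → ∀ m : M, k • m = 0) (d₀ : A →+ M)
    (h₀ : ∀ a b, d₀ (a * b) = algebraMap A B' a • d₀ b + algebraMap A B' b • d₀ a) :
    ∃! D : B' →+ M, (∀ x y, D (x * y) = x • D y + y • D x) ∧ ∀ a, D (algebraMap A B' a) = d₀ a := by
  obtain ⟨hs, hk, hu⟩ := h
  letI : Module B'ᵐᵒᵖ M := Module.compHom M ((RingHom.id B').fromOpposite mul_comm)
  haveI : IsCentralScalar B' M := ⟨fun _ _ => rfl⟩
  haveI : SMulCommClass B' B'ᵐᵒᵖ M := ⟨fun x y m => smul_comm x y.unop m⟩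
  have h1 : d₀ 1 = 0 := by
    have := h₀ 1 1
    simp only [mul_one, (algebraMap A B').map_one, one_smul] at this
    exact left_eq_add.mp this
  let ψ : A →+* TrivSqZeroExt B' M :=
    { toFun := fun a => inl (algebraMap A B' a) + inr (d₀ a)
      map_one' := by ext <;> simp [h1]
      map_mul' := fun a b => by
        ext
        · simp
        · simp [h₀, op_smul_eq_smul]
      map_zero' := by ext <;> simp
      map_add' := fun a b => by ext <;> simp }
  letI algC : Algebra A (TrivSqZeroExt B' M) := ψ.toAlgebra
  have halg : ∀ a, algebraMap A (TrivSqZeroExt B' M) a = inl (algebraMap A B' a) + inr (d₀ a) :=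
    fun a => rfl
  let fC : TrivSqZeroExt B' M →ₐ[A] B' :=
    { TrivSqZeroExt.fstHom B' B' M |>.toRingHom with
      commutes' := fun a => by
        change TrivSqZeroExt.fst (algebraMap A (TrivSqZeroExt B' M) a) = _
        rw [halg]; simp }
  have hfC : ∀ z, fC z = z.fst := fun z => rfl
  let J : Ideal (TrivSqZeroExt B' M) := RingHom.ker (π.comp fC)
  have hJ : J ^ 2 = ⊥ := by
    refine eq_bot_iff.mpr ((pow_two J).trans_le (Ideal.mul_le.mpr fun x hx y hy => ?_))
    have hx' : π x.fst = 0 := hx
    have hy' : π y.fst = 0 := hy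
    rw [Ideal.mem_bot]
    refine TrivSqZeroExt.ext ?_ ?_
    · rw [TrivSqZeroExt.fst_mul, TrivSqZeroExt.fst_zero]
      have : x.fst * y.fst ∈ RingHom.ker π.toRingHom ^ 2 := by
        rw [pow_two]; exact Ideal.mul_mem_mul hx' hy'
      rwa [hk, Ideal.mem_bot] at this
    · rw [TrivSqZeroExt.snd_mul, TrivSqZeroExt.snd_zero, op_smul_eq_smul, hM _ hx', hM _ hy', add_zero]
  have hsur : Function.Surjective (π.comp fC) := fun b => by
    obtain ⟨x, rfl⟩ := hs b
    exact ⟨inl x, by simp [hfC]⟩
  let e := Ideal.quotientKerAlgEquivOfSurjective hsur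
  let a : B →ₐ[A] TrivSqZeroExt B' M ⧸ J := e.symm.toAlgHom
  have hlift : ∀ g : B' →ₐ[A] TrivSqZeroExt B' M, (∀ x, π (g x).fst = π x) →
      (Ideal.Quotient.mkₐ A J).comp g = a.comp π := fun g hg => by
    refine AlgHom.ext fun x => e.injective ?_
    change e (Ideal.Quotient.mk J (g x)) = e (e.symm (π x))
    rw [AlgEquiv.apply_symm_apply]
    exact hg x
  obtain ⟨a', ha', huniq⟩ := hu (TrivSqZeroExt B' M) J hJ a
  have hπ' : ∀ x, π (a' x).fst = π x := fun x => by
    have := congr_arg e (AlgHom.congr_fun ha' x)
    change e (Ideal.Quotient.mk J (a' x)) = e (e.symm (π x)) at this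
    rw [AlgEquiv.apply_symm_apply] at this
    exact this
  have hfst : ∀ x, (a' x).fst = x := by
    have hk2 : RingHom.ker π.toRingHom ^ 2 = ⊥ := hk
    let eB := Ideal.quotientKerAlgEquivOfSurjective (f := π) hs
    obtain ⟨c, -, hc⟩ := hu B' (RingHom.ker π) hk2 eB.symm.toAlgHom
    have hid : ∀ g : B' →ₐ[A] B', (∀ x, π (g x) = π x) → g = c := fun g hg => hc g <| AlgHom.ext fun x => eB.injective (by
      change eB (Ideal.Quotient.mk _ (g x)) = eB (eB.symm (π x))
      rw [AlgEquiv.apply_symm_apply]
      exact hg x)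
    intro x
    exact AlgHom.congr_fun ((hid (fC.comp a') hπ').trans (hid (AlgHom.id A B') fun _ => rfl).symm) x
  refine ⟨AddMonoidHom.mk' (fun x => (a' x).snd) fun x y => by rw [map_add, TrivSqZeroExt.snd_add],
    ⟨fun x y => ?_, fun r => ?_⟩, fun D hD => ?_⟩
  · change (a' (x * y)).snd = x • (a' y).snd + y • (a' x).snd
    rw [map_mul, TrivSqZeroExt.snd_mul, hfst, hfst, op_smul_eq_smul]
  · change (a' (algebraMap A B' r)).snd = _
    rw [a'.commutes, halg]; simp
  · obtain ⟨hD1, hD2⟩ := hD
    have hD0 : D 1 = 0 := by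
      have := hD1 1 1
      rw [mul_one, one_smul] at this
      exact left_eq_add.mp this
    let g : B' →ₐ[A] TrivSqZeroExt B' M :=
      { toFun := fun x => inl x + inr (D x)
        map_one' := by ext <;> simp [hD0]
        map_mul' := fun x y => by
          ext
          · simp
          · simp [hD1, op_smul_eq_smul]
        map_zero' := by ext <;> simp
        map_add' := fun x y => by ext <;> simp
        commutes' := fun r => by rw [halg, hD2] }
    have hg : g = a' := huniq g (hlift g fun x => by simp [g])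
    refine AddMonoidHom.ext fun x => ?_
    change D x = (a' x).snd
    rw [← hg]; simp [g]

variable [Algebra B' B] [IsScalarTower A B' B]

theorem formallyUnramified (h : OmegaSh.IsUnivThickeningRing A B B' (IsScalarTower.toAlgHom A B' B)) :
    Algebra.FormallyUnramified A B' := by
  obtain ⟨hs, hk, -⟩ := id h
  let K : Ideal B' := RingHom.ker (IsScalarTower.toAlgHom A B' B).toRingHom
  let N : Submodule B' Ω[B'⁄A] := K • ⊤
  have hD : ∀ x, Submodule.Quotient.mk (p := N) (KaehlerDifferential.D A B' x) = 0 := by
    obtain ⟨D₁, -, huniq⟩ := existsUnique_ext _ h (Ω[B'⁄A] ⧸ N) (fun k hk' m => by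
      obtain ⟨m, rfl⟩ := Submodule.Quotient.mk_surjective _ m
      rw [← Submodule.Quotient.mk_smul, Submodule.Quotient.mk_eq_zero]
      exact Submodule.smul_mem_smul hk' trivial) 0 (fun a b => by simp)
    intro x
    have e1 := huniq (N.mkQ.toAddMonoidHom.comp (KaehlerDifferential.D A B').toLinearMap.toAddMonoidHom)
      ⟨fun x y => by
        simp only [AddMonoidHom.comp_apply, LinearMap.toAddMonoidHom_coe]
        change Submodule.Quotient.mk (KaehlerDifferential.D A B' (x * y)) = _
        rw [Derivation.leibniz, Submodule.Quotient.mk_add, Submodule.Quotient.mk_smul, Submodule.Quotient.mk_smul]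
        rfl,
      fun a => by simp⟩
    have e2 := huniq 0 ⟨fun x y => by simp, fun a => rfl⟩
    exact DFunLike.congr_fun (e1.trans e2.symm) x
  have hN : N = ⊤ := by
    rw [eq_top_iff, ← KaehlerDifferential.span_range_derivation, Submodule.span_le]
    rintro _ ⟨x, rfl⟩
    exact (Submodule.Quotient.mk_eq_zero _).mp (hD x)
  refine ⟨(Submodule.subsingleton_iff B').mp (subsingleton_of_bot_eq_top ?_)⟩
  have hK : K ^ 2 = ⊥ := hk
  have : (⊤ : Submodule B' Ω[B'⁄A]) = K ^ 2 • ⊤ := by
    rw [pow_two, ← smul_eq_mul, Submodule.smul_assoc]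
    change ⊤ = K • N
    rw [hN]; exact hN.symm
  rw [this, hK, Submodule.bot_smul]

variable (R : Type u) [CommRing R] [Algebra R A] [Algebra R B'] [IsScalarTower R A B']

theorem baseChange_bijective (h : OmegaSh.IsUnivThickeningRing A B B' (IsScalarTower.toAlgHom A B' B)) :
    Function.Bijective ((KaehlerDifferential.mapBaseChange R A B').baseChange B) := by
  haveI := formallyUnramified h
  have hsurj : Function.Surjective (KaehlerDifferential.mapBaseChange R A B') := by
    rw [← LinearMap.range_eq_top, KaehlerDifferential.range_mapBaseChange, LinearMap.ker_eq_top]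
    exact Subsingleton.elim _ _
  refine ⟨?_, LinearMap.lTensor_surjective B hsurj⟩
  let d₀ : A →+ B ⊗[A] Ω[A⁄R] :=
    ((TensorProduct.mk A B Ω[A⁄R] 1).toAddMonoidHom).comp (KaehlerDifferential.D R A).toLinearMap.toAddMonoidHom
  obtain ⟨δ, ⟨hδ1, hδ2⟩, -⟩ := existsUnique_ext _ h (B ⊗[A] Ω[A⁄R]) (fun k hk z => by
    rw [← algebraMap_smul B k z, show algebraMap B' B k = 0 from hk, zero_smul]) d₀ (fun a b => by
      change (1 : B) ⊗ₜ[A] KaehlerDifferential.D R A (a * b) = _
      rw [Derivation.leibniz, TensorProduct.tmul_add, TensorProduct.tmul_smul, TensorProduct.tmul_smul,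
        algebraMap_smul, algebraMap_smul]
      rfl)
  letI : Module R (B ⊗[A] Ω[A⁄R]) := Module.compHom _ (algebraMap R B')
  haveI : IsScalarTower R B' (B ⊗[A] Ω[A⁄R]) := .of_algebraMap_smul fun _ _ => rfl
  let δ' : Derivation R B' (B ⊗[A] Ω[A⁄R]) := Derivation.mk'
    { toFun := δ, map_add' := map_add δ,
      map_smul' := fun r x => by
        rw [Algebra.smul_def, hδ1, IsScalarTower.algebraMap_apply R A B', hδ2]
        have : d₀ (algebraMap R A r) = 0 := by
          change (1 : B) ⊗ₜ[A] KaehlerDifferential.D R A (algebraMap R A r) = 0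
          rw [Derivation.map_algebraMap, TensorProduct.tmul_zero]
        rw [this, smul_zero, add_zero, ← IsScalarTower.algebraMap_apply R A B']
        rfl }
    (fun x y => hδ1 x y)
  let g : B ⊗[B'] Ω[B'⁄R] →ₗ[B] B ⊗[A] Ω[A⁄R] := δ'.liftKaehlerDifferential.liftBaseChange B
  let cb := TensorProduct.AlgebraTensorModule.cancelBaseChange A B' B B Ω[A⁄R]
  have hleft : g ∘ₗ (KaehlerDifferential.mapBaseChange R A B').baseChange B = cb.toLinearMap := by
    refine TensorProduct.AlgebraTensorModule.ext fun b z => ?_
    induction z using TensorProduct.induction_on with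
    | zero => simp
    | add x y hx hy => simp only [TensorProduct.tmul_add, map_add, hx, hy]
    | tmul c w =>
      have hw : δ'.liftKaehlerDifferential (KaehlerDifferential.map R R A B' w) = (1 : B) ⊗ₜ[A] w := by
        have hw' : w ∈ Submodule.span A (Set.range (KaehlerDifferential.D R A)) := by
          rw [KaehlerDifferential.span_range_derivation]; trivial
        induction hw' using Submodule.span_induction with
        | mem x hx =>
          obtain ⟨a, rfl⟩ := hx
          rw [KaehlerDifferential.map_D, Derivation.liftKaehlerDifferential_comp_D]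
          exact hδ2 a
        | zero => simp
        | add x y _ _ hx hy => rw [map_add, map_add, hx, hy, TensorProduct.tmul_add]
        | smul a x _ hx =>
          rw [map_smul, ← algebraMap_smul B' a, map_smul, hx, algebraMap_smul, TensorProduct.tmul_smul]
      simp only [LinearMap.comp_apply, LinearMap.baseChange_tmul, g, LinearMap.liftBaseChange_tmul,
        KaehlerDifferential.mapBaseChange_tmul, map_smul, hw, cb, LinearEquiv.coe_coe,
        TensorProduct.AlgebraTensorModule.cancelBaseChange_tmul]
      rw [TensorProduct.smul_tmul', TensorProduct.smul_tmul', smul_eq_mul, Algebra.smul_def, Algebra.smul_def,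
        mul_one, mul_comm]
  exact Function.Injective.of_comp (f := g) (by rw [← LinearMap.coe_comp, hleft]; exact cb.injective)

end ThickRingLib
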