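import Groth.Prelude.Def_Omega3
import Mathlib.RingTheory.Localization.Basic
import Mathlib.RingTheory.Kaehler.Basic
import Mathlib.Algebra.MvPolynomial.PDeriv
import Mathlib.RingTheory.Ideal.Quotient.Operations

/-!
# Localization of square-zero thickenings of rings
-/

set_option autoImplicit false

universe u

namespace ThickRingLib

variable {B B' BS B'S : Type u} [CommRing B] [CommRing B'] [CommRing BS] [CommRing B'S]
  [Algebra B BS] [Algebra B' B'S]

theorem surj_and_ker (π : B' →+* B) (hπ : Function.Surjective π) (hk : RingHom.ker π ^ 2 = ⊥)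
    (M : Submonoid B') (N : Submonoid B) [IsLocalization M B'S] [IsLocalization N BS]
    (hMN : ∀ m ∈ M, π m ∈ N) (hNM : ∀ n ∈ N, ∃ m ∈ M, π m = n) (g : B'S →+* BS)
    (hg : ∀ x, g (algebraMap B' B'S x) = algebraMap B BS (π x)) :
    Function.Surjective g ∧ RingHom.ker g ^ 2 = ⊥ := by
  constructor
  · intro y
    obtain ⟨b, ⟨n, hn⟩, rfl⟩ := IsLocalization.exists_mk'_eq N y
    obtain ⟨x, rfl⟩ := hπ b
    obtain ⟨m, hm, rfl⟩ := hNM n hn
    refine ⟨IsLocalization.mk' B'S x ⟨m, hm⟩, ?_⟩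
    rw [IsLocalization.eq_mk'_iff_mul_eq]
    change _ * algebraMap B BS (π m) = _
    rw [← hg, ← map_mul, IsLocalization.mk'_spec, hg]
  · have key : ∀ z, g z = 0 → ∃ k u : B', π k = 0 ∧ IsUnit (algebraMap B' B'S u) ∧
        z * algebraMap B' B'S u = algebraMap B' B'S k := by
      intro z hz
      obtain ⟨x, ⟨m, hm⟩, rfl⟩ := IsLocalization.exists_mk'_eq M z
      have hx : algebraMap B BS (π x) = 0 := by
        rw [← hg, ← IsLocalization.mk'_spec B'S x ⟨m, hm⟩, map_mul, hz, zero_mul]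
      obtain ⟨⟨n, hn⟩, hnx⟩ := (IsLocalization.map_eq_zero_iff N BS _).mp hx
      obtain ⟨m', hm', rfl⟩ := hNM n hn
      refine ⟨x * m', m * m', ?_, IsLocalization.map_units B'S (⟨m, hm⟩ * ⟨m', hm'⟩ : M), ?_⟩
      · rw [map_mul, mul_comm]; exact hnx
      · rw [map_mul, ← mul_assoc, IsLocalization.mk'_spec B'S x ⟨m, hm⟩, ← map_mul]
    rw [sq, eq_bot_iff, Ideal.mul_le]
    intro z hz w hw
    obtain ⟨k, u, hk1, hu, hku⟩ := key z hz
    obtain ⟨l, v, hl1, hv, hlv⟩ := key w hw
    have h0 : k * l = 0 := by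
      have : k * l ∈ RingHom.ker π ^ 2 := by rw [sq]; exact Ideal.mul_mem_mul hk1 hl1
      rwa [hk, Ideal.mem_bot] at this
    rw [Ideal.mem_bot, ← (hu.mul hv).mul_left_eq_zero]
    calc z * w * (algebraMap B' B'S u * algebraMap B' B'S v)
        = z * algebraMap B' B'S u * (w * algebraMap B' B'S v) := by ring
      _ = 0 := by rw [hku, hlv, ← map_mul, h0, map_zero]

theorem isUnit_of_mk {A : Type u} [CommRing A] {I : Ideal A} (hI : I ^ 2 = ⊥) {x : A}
    (hx : IsUnit (Ideal.Quotient.mk I x)) : IsUnit x := by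
  obtain ⟨y', hy⟩ := isUnit_iff_exists_inv.mp hx
  obtain ⟨y, rfl⟩ := Ideal.Quotient.mk_surjective y'
  rw [← map_mul, ← map_one (Ideal.Quotient.mk I), Ideal.Quotient.eq] at hy
  refine isUnit_iff_exists_inv.mpr ⟨y * (2 - x * y), ?_⟩
  have h := Ideal.mul_mem_mul hy hy
  rw [← sq I, hI, Ideal.mem_bot] at h
  linear_combination -h

end ThickRingLib

namespace ThickRingLib

variable {R σ A : Type u} [CommRing R] [CommRing A] [Algebra R A]

open MvPolynomial

theorem taylor (φ φ' : MvPolynomial σ R →ₐ[R] A) {I : Ideal A} (hI : I ^ 2 = ⊥)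
    (h : ∀ s, φ' (X s) - φ (X s) ∈ I) (p : MvPolynomial σ R) :
    ∃ T : Finset σ, ∀ T', T ⊆ T' →
      φ' p - φ p = ∑ t ∈ T', φ (pderiv t p) * (φ' (X t) - φ (X t)) := by
  classical
  induction p using MvPolynomial.induction_on with
  | C a => exact ⟨∅, fun T' _ => by simp [algHom_C]⟩
  | add p q hp hq =>
    obtain ⟨T, hT⟩ := hp
    obtain ⟨U, hU⟩ := hq
    refine ⟨T ∪ U, fun T' hT' => ?_⟩
    simp only [map_add, add_mul, Finset.sum_add_distrib]
    rw [← hT T' (Finset.union_subset_left hT'), ← hU T' (Finset.union_subset_right hT')]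
    ring
  | mul_X p n hp =>
    obtain ⟨T, hT⟩ := hp
    refine ⟨insert n T, fun T' hT' => ?_⟩
    have e := hT T' ((Finset.subset_insert n T).trans hT')
    have hn : n ∈ T' := hT' (Finset.mem_insert_self n T)
    have hmem : φ' p - φ p ∈ I := by
      rw [e]; exact Ideal.sum_mem _ fun t _ => Ideal.mul_mem_left _ _ (h t)
    have h0 : (φ' p - φ p) * (φ' (X n) - φ (X n)) = 0 := by
      have := Ideal.mul_mem_mul hmem (h n)
      rwa [← sq, hI, Ideal.mem_bot] at this
    have hs : ∑ t ∈ T', φ (pderiv t (p * X n)) * (φ' (X t) - φ (X t)) =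
        (φ' p - φ p) * φ (X n) + φ p * (φ' (X n) - φ (X n)) := by
      rw [e, Finset.sum_mul]
      have : ∀ t ∈ T', φ (pderiv t (p * X n)) * (φ' (X t) - φ (X t)) =
          φ (pderiv t p) * (φ' (X t) - φ (X t)) * φ (X n) +
            (if t = n then φ p * (φ' (X n) - φ (X n)) else 0) := by
        intro t _
        by_cases ht : t = n
        · subst ht
          simp only [pderiv_mul, pderiv_X_self, map_add, map_mul, map_one, if_true]
          ring
        · simp only [pderiv_mul, pderiv_X_of_ne (Ne.symm ht), map_add, map_mul, map_zero, if_neg ht]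
          ring
      rw [Finset.sum_congr rfl this, Finset.sum_add_distrib, Finset.sum_ite_eq' T' n, if_pos hn]
    rw [hs, map_mul, map_mul]
    linear_combination h0

/-- A polynomial whose derivatives lie in an ideal that acts trivially on `I` is insensitive to
changing a homomorphism modulo `I`. -/
theorem eq_of_pderiv_mem (φ φ' : MvPolynomial σ R →ₐ[R] A) {I : Ideal A} (hI : I ^ 2 = ⊥)
    (h : ∀ s, φ' (X s) - φ (X s) ∈ I) {J : Ideal (MvPolynomial σ R)} (hJ : ∀ p ∈ J, φ p ∈ I)
    {q : MvPolynomial σ R} (hq : ∀ t, pderiv t q ∈ J) : φ' q = φ q := by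
  obtain ⟨T, hT⟩ := taylor φ φ' hI h q
  rw [← sub_eq_zero, hT T subset_rfl]
  refine Finset.sum_eq_zero fun t _ => ?_
  have := Ideal.mul_mem_mul (hJ _ (hq t)) (h t)
  rwa [← sq, hI, Ideal.mem_bot] at this

end ThickRingLib
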